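import Mathlib.CategoryTheory.FiberedCategory.Fiber
import Mathlib.CategoryTheory.IsConnected
import Mathlib.CategoryTheory.Limits.HasLimits

/-!
# Colimits along a functor with connected fibres
-/

set_option autoImplicit false
set_option backward.isDefEq.respectTransparency false
set_option backward.isDefEq.respectTransparency.types false

universe v₁ v₂ v₃ u₁ u₂ u₃

open CategoryTheory CategoryTheory.Limits

namespace Groth.Agent.CatLimB

variable {I : Type u₁} [Category.{v₁} I] {I' : Type u₂} [Category.{v₂} I'] {C : Type u₃} [Category.{v₃} C] (F : I ⥤ I')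

variable (h1 : ∀ x' : I', IsConnected (F.Fiber x'))
  (h2 : ∀ ⦃x' y' : I'⦄ (α' : x' ⟶ y'), ∃ (x y : I) (hx : F.obj x = x') (hy : F.obj y = y') (α : x ⟶ y),
    F.map α = eqToHom hx ≫ α' ≫ eqToHom hy.symm)
  {M : I' ⥤ C}

include h1 in
lemma component_eq (d : Cocone (F ⋙ M)) {x y : I} {x' : I'} (hx : F.obj x = x') (hy : F.obj y = x') :
    M.map (eqToHom hx.symm) ≫ d.ι.app x = M.map (eqToHom hy.symm) ≫ d.ι.app y := by
  have := h1 x'
  refine constant_of_preserves_morphisms
    (fun z : F.Fiber x' => M.map (eqToHom z.2.symm) ≫ d.ι.app z.1) (fun z w g => ?_) ⟨x, hx⟩ ⟨y, hy⟩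
  have := g.2
  rw [← d.w g.1, Functor.comp_map, IsHomLift.fac' F (𝟙 x') g.1, ← Category.assoc, ← M.map_comp]
  simp

/-- A point of each fibre. -/
noncomputable def pick (x' : I') : F.Fiber x' :=
  haveI := h1 x'
  Classical.arbitrary _

/-- The cocone downstairs. -/
noncomputable def extend (d : Cocone (F ⋙ M)) : Cocone M where
  pt := d.pt
  ι :=
    { app := fun x' => M.map (eqToHom (pick F h1 x').2.symm) ≫ d.ι.app (pick F h1 x').1
      naturality := fun x' y' α' => by
        obtain ⟨x, y, hx, hy, α, hα⟩ := h2 α'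
        rw [component_eq F h1 d (pick F h1 x').2 hx, component_eq F h1 d (pick F h1 y').2 hy, ← d.w α]
        show M.map α' ≫ M.map (eqToHom hy.symm) ≫ d.ι.app y = (M.map (eqToHom hx.symm) ≫ M.map (F.map α) ≫ d.ι.app y) ≫ 𝟙 _
        rw [Category.comp_id, hα, ← M.map_comp_assoc, ← M.map_comp_assoc]
        simp }

lemma extend_app (d : Cocone (F ⋙ M)) (x : I) : (extend F h1 h2 d).ι.app (F.obj x) = d.ι.app x :=
  (component_eq F h1 d (pick F h1 (F.obj x)).2 rfl).trans (by simp)

include h1 in
lemma whisker_ext {s : C} {c : Cocone M} {m m' : c.pt ⟶ s}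
    (h : ∀ x, c.ι.app (F.obj x) ≫ m = c.ι.app (F.obj x) ≫ m') (x' : I') : c.ι.app x' ≫ m = c.ι.app x' ≫ m' := by
  obtain ⟨x, hx⟩ := pick F h1 x'
  subst hx
  exact h x

/-- A colimit downstairs is one upstairs. -/
noncomputable def isColimitWhisker {c : Cocone M} (hc : IsColimit c) : IsColimit (c.whisker F) where
  desc s := hc.desc (extend F h1 h2 s)
  fac s x := (hc.fac (extend F h1 h2 s) (F.obj x)).trans (extend_app F h1 h2 s x)
  uniq s m hm := hc.hom_ext fun x' => whisker_ext F h1
    (fun x => (hm x).trans ((hc.fac (extend F h1 h2 s) (F.obj x)).trans (extend_app F h1 h2 s x)).symm) x'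

/-- A colimit upstairs is one downstairs. -/
noncomputable def isColimitExtend {d : Cocone (F ⋙ M)} (hd : IsColimit d) : IsColimit (extend F h1 h2 d) where
  desc s := hd.desc (s.whisker F)
  fac s x' := by
    obtain ⟨x, hx⟩ := pick F h1 x'
    subst hx
    rw [extend_app]
    exact hd.fac (s.whisker F) x
  uniq s m hm := hd.hom_ext fun x => by
    rw [hd.fac, ← extend_app F h1 h2 d x]
    exact hm (F.obj x)

include h1 h2 in
theorem hasColimit_iff (M : I' ⥤ C) :
    (HasColimit (F ⋙ M) ↔ HasColimit M) ∧ ∀ [HasColimit (F ⋙ M)] [HasColimit M], IsIso (colimit.pre M F) := by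
  refine ⟨⟨fun _ => ⟨⟨_, isColimitExtend F h1 h2 (colimit.isColimit _)⟩⟩,
    fun _ => ⟨⟨_, isColimitWhisker F h1 h2 (colimit.isColimit _)⟩⟩⟩, ?_⟩
  intro _ _
  let e := (colimit.isColimit (F ⋙ M)).coconePointUniqueUpToIso (isColimitWhisker F h1 h2 (colimit.isColimit M))
  have : colimit.pre M F = e.hom := by
    ext x
    simp only [colimit.ι_pre]
    exact ((colimit.isColimit (F ⋙ M)).comp_coconePointUniqueUpToIso_hom
      (isColimitWhisker F h1 h2 (colimit.isColimit M)) x).symm
  rw [this]
  infer_instance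

end Groth.Agent.CatLimB
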