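import Mathlib.CategoryTheory.Limits.Final
import Mathlib.CategoryTheory.IsConnected
import Mathlib.CategoryTheory.FinCategory.Basic
import Mathlib.CategoryTheory.MorphismProperty.Composition
import Mathlib.Data.Finite.Sum

/-!
# A finitely generated category receives a final and initial functor from a finite category
-/

set_option autoImplicit false
set_option backward.isDefEq.respectTransparency false
set_option backward.isDefEq.respectTransparency.types false

universe v u

open CategoryTheory

namespace Groth.Agent.CatLimB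

/-- The vertices and the edges of a finite graph, as a type. -/
structure Bary {V E : Type} (e : E → Bool → V) where
  /-- the point -/
  pt : V ⊕ E

namespace Bary

variable {V E : Type} {e : E → Bool → V}

/-- The admissible labels of morphisms. -/
def Ok (x y : Bary e) : Option Bool → Prop
  | none => x = y
  | some b => ∃ a, x.pt = .inr a ∧ y.pt = .inl (e a b)

/-- Composition of labels. -/
def cmp : Option Bool → Option Bool → Option Bool
  | none, l => l
  | some b, _ => some b

lemma cmp_none (l : Option Bool) : cmp l none = l := by cases l <;> rfl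

lemma ok_cmp {x y z : Bary e} : ∀ {l l' : Option Bool}, Ok x y l → Ok y z l' → Ok x z (cmp l l')
  | none, _, h, h' => by obtain rfl : x = y := h; exact h'
  | some _, none, h, h' => by obtain rfl : y = z := h'; exact h
  | some _, some _, ⟨_, _, h⟩, ⟨_, h', _⟩ => by rw [h] at h'; cases h'

instance : SmallCategory (Bary e) where
  Hom x y := {l : Option Bool // Ok x y l}
  id x := ⟨none, rfl⟩
  comp f g := ⟨cmp f.1 g.1, ok_cmp f.2 g.2⟩
  id_comp f := Subtype.ext rfl
  comp_id f := Subtype.ext (cmp_none _)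
  assoc := fun ⟨f, _⟩ ⟨g, _⟩ ⟨h, _⟩ => Subtype.ext (show cmp (cmp f g) h = cmp f (cmp g h) by cases f <;> rfl)

/-- The leg from an edge to one of its endpoints. -/
def leg (a : E) (b : Bool) : (⟨.inr a⟩ : Bary e) ⟶ ⟨.inl (e a b)⟩ := ⟨some b, a, rfl, rfl⟩

noncomputable instance [Finite V] [Finite E] : FinCategory (Bary e) where
  fintypeObj := haveI := Fintype.ofFinite (V ⊕ E); Fintype.ofEquiv (V ⊕ E) ⟨Bary.mk, Bary.pt, fun _ => rfl, fun _ => rfl⟩
  fintypeHom x y := Fintype.ofFinite {l : Option Bool // Ok x y l}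

variable {I : Type u} [Category.{v} I]

/-- A functor out of the category of a graph. -/
noncomputable def toCat (o : Bary e → I) (m : ∀ a b, o ⟨.inr a⟩ ⟶ o ⟨.inl (e a b)⟩) : Bary e ⥤ I where
  obj := o
  map {x y} f :=
    match f with
    | ⟨none, h⟩ => eqToHom (congrArg o h)
    | ⟨some b, h⟩ => eqToHom (congrArg o (show x = ⟨.inr h.choose⟩ from congrArg Bary.mk h.choose_spec.1)) ≫
        m h.choose b ≫ eqToHom (congrArg o (show _ = y from (congrArg Bary.mk h.choose_spec.2).symm))
  map_id x := rfl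
  map_comp := fun {x y z} ⟨f, hf⟩ ⟨g, hg⟩ => by
    cases f with
    | none =>
      obtain rfl : x = y := hf
      exact (Category.id_comp _).symm
    | some b =>
      cases g with
      | none =>
        obtain rfl : y = z := hg
        exact (Category.comp_id _).symm
      | some b' =>
        obtain ⟨_, _, h⟩ := hf
        obtain ⟨_, h', _⟩ := hg
        rw [h] at h'; cases h'

lemma toCat_leg (o : Bary e → I) (m : ∀ a b, o ⟨.inr a⟩ ⟶ o ⟨.inl (e a b)⟩) (a : E) (b : Bool) :
    (toCat o m).map (leg a b) = m a b := by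
  have h : Ok (⟨.inr a⟩ : Bary e) ⟨.inl (e a b)⟩ (some b) := ⟨a, rfl, rfl⟩
  show eqToHom _ ≫ m h.choose b ≫ eqToHom _ = _
  have key : ∀ (a' : E) (p : o ⟨.inr a⟩ = o ⟨.inr a'⟩) (q : o ⟨.inl (e a' b)⟩ = o ⟨.inl (e a b)⟩),
      a' = a → eqToHom p ≫ m a' b ≫ eqToHom q = m a b := by
    rintro a' p q rfl; simp
  refine key _ _ _ ?_
  have := h.choose_spec.1
  simpa using this.symm

end Bary

variable {I : Type u} [Category.{v} I]

theorem exists_fin [Finite I] (gen : Finset (Σ x y : I, x ⟶ y))
    (hgen : ∀ P : MorphismProperty I, P.IsMultiplicative → (∀ a ∈ gen, P a.2.2) → P = ⊤) :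
    ∃ (J : Type) (_ : SmallCategory J) (_ : FinCategory J) (F : J ⥤ I),
      F.Final ∧ F.Initial ∧ (IsConnected J ↔ IsConnected I) ∧ (Nonempty J ↔ Nonempty I) := by
  obtain ⟨n, ⟨eI⟩⟩ := Finite.exists_equiv_fin I
  let eG := gen.equivFin
  let g : Fin gen.card → Σ x y : I, x ⟶ y := fun a => (eG.symm a).1
  let en : Fin gen.card → Bool → Fin n := fun a b => if b then eI (g a).2.1 else eI (g a).1
  let o : Bary en → I := fun x => x.pt.elim eI.symm (fun a => (g a).1)
  let m : ∀ a b, o ⟨.inr a⟩ ⟶ o ⟨.inl (en a b)⟩ := fun a b =>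
    match b with
    | false => eqToHom (eI.symm_apply_apply _).symm
    | true => (g a).2.2 ≫ eqToHom (eI.symm_apply_apply _).symm
  let F := Bary.toCat o m
  let vx : I → Bary en := fun i => ⟨.inl (eI i)⟩
  have hvx : ∀ i, F.obj (vx i) = i := fun i => eI.symm_apply_apply i
  have hv' : ∀ k, (⟨.inl k⟩ : Bary en) = vx (o ⟨.inl k⟩) := fun k => congrArg (fun t => (⟨.inl t⟩ : Bary en)) (eI.apply_symm_apply k).symm
  have hgall : ∀ (P : MorphismProperty I), P.IsMultiplicative → (∀ a, P (g a).2.2) →
      ∀ {i j : I} (φ : i ⟶ j), P φ := fun P hP h i j φ => by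
    rw [hgen P hP fun a ha => by
      have := h (eG ⟨a, ha⟩)
      simp only [g] at this
      rw [Equiv.symm_apply_apply] at this
      exact this]
    trivial
  have hfinal : F.Final := by
    refine ⟨fun i => ?_⟩
    let mk : ∀ {x : I}, (i ⟶ x) → StructuredArrow i F := fun {x} φ =>
      StructuredArrow.mk (Y := vx x) (φ ≫ eqToHom (hvx x).symm)
    have hedge : ∀ a (φ : i ⟶ (g a).1), Zigzag (mk φ) (mk (φ ≫ (g a).2.2)) := fun a φ => by
      let s : StructuredArrow i F := StructuredArrow.mk (Y := (⟨.inr a⟩ : Bary en)) φ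
      refine (Zigzag.of_inv (j₂ := s) ?_).trans (Zigzag.of_hom (j₁ := s) ?_)
      · refine StructuredArrow.homMk (Bary.leg a false) ?_
        show φ ≫ F.map (Bary.leg a false) = φ ≫ eqToHom _
        rw [Bary.toCat_leg]
      · refine StructuredArrow.homMk (Bary.leg a true) ?_
        show φ ≫ F.map (Bary.leg a true) = (φ ≫ (g a).2.2) ≫ eqToHom _
        rw [Bary.toCat_leg]
        exact (Category.assoc _ _ _).symm
    let P : MorphismProperty I := fun x y f => ∀ φ : i ⟶ x, Zigzag (mk φ) (mk (φ ≫ f))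
    have hP : P.IsMultiplicative :=
      { id_mem := fun x φ => by rw [Category.comp_id]
        comp_mem := fun f f' hf hf' φ => by rw [← Category.assoc]; exact (hf φ).trans (hf' _) }
    have hall : ∀ {x : I} (φ : i ⟶ x), Zigzag (mk (𝟙 i)) (mk φ) := fun φ => by
      simpa using hgall P hP hedge φ (𝟙 i)
    haveI : Nonempty (StructuredArrow i F) := ⟨mk (𝟙 i)⟩
    suffices h : ∀ s : StructuredArrow i F, Zigzag (mk (𝟙 i)) s from
      zigzag_isConnected fun s t => (Zigzag.symm (h s)).trans (h t)
    intro s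
    obtain ⟨⟨⟨⟩⟩, ⟨k | a⟩, φ⟩ := s
    · refine (hall (x := o ⟨.inl k⟩) φ).trans (Zigzag.of_hom ?_)
      exact StructuredArrow.homMk (eqToHom (hv' k).symm) (by
        show (φ ≫ eqToHom _) ≫ F.map (eqToHom _) = φ
        rw [eqToHom_map, Category.assoc, eqToHom_trans]
        exact Category.comp_id φ)
    · refine (hall (x := (g a).1) φ).trans (Zigzag.of_inv ?_)
      exact StructuredArrow.homMk (Bary.leg a false) (by
        show φ ≫ F.map (Bary.leg a false) = φ ≫ eqToHom _
        rw [Bary.toCat_leg])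
  have hinitial : F.Initial := by
    refine ⟨fun i => ?_⟩
    let mk : ∀ {x : I}, (x ⟶ i) → CostructuredArrow F i := fun {x} φ =>
      CostructuredArrow.mk (Y := vx x) (eqToHom (hvx x) ≫ φ)
    have hedge : ∀ a (φ : (g a).2.1 ⟶ i), Zigzag (mk ((g a).2.2 ≫ φ)) (mk φ) := fun a φ => by
      let s : CostructuredArrow F i := CostructuredArrow.mk (Y := (⟨.inr a⟩ : Bary en)) ((g a).2.2 ≫ φ)
      refine (Zigzag.of_inv (j₂ := s) ?_).trans (Zigzag.of_hom (j₁ := s) ?_)
      · refine CostructuredArrow.homMk (Bary.leg a false) ?_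
        show F.map (Bary.leg a false) ≫ eqToHom _ ≫ (g a).2.2 ≫ φ = (g a).2.2 ≫ φ
        rw [Bary.toCat_leg]
        simp [m]
      · refine CostructuredArrow.homMk (Bary.leg a true) ?_
        show F.map (Bary.leg a true) ≫ eqToHom _ ≫ φ = (g a).2.2 ≫ φ
        rw [Bary.toCat_leg]
        simp [m]
    let P : MorphismProperty I := fun x y f => ∀ φ : y ⟶ i, Zigzag (mk (f ≫ φ)) (mk φ)
    have hP : P.IsMultiplicative :=
      { id_mem := fun x φ => by rw [Category.id_comp]
        comp_mem := fun f f' hf hf' φ => by rw [Category.assoc]; exact (hf _).trans (hf' φ) }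
    have hall : ∀ {x : I} (φ : x ⟶ i), Zigzag (mk φ) (mk (𝟙 i)) := fun φ => by
      simpa using hgall P hP hedge φ (𝟙 i)
    haveI : Nonempty (CostructuredArrow F i) := ⟨mk (𝟙 i)⟩
    suffices h : ∀ s : CostructuredArrow F i, Zigzag s (mk (𝟙 i)) from
      zigzag_isConnected fun s t => (h s).trans (Zigzag.symm (h t))
    intro s
    obtain ⟨⟨k | a⟩, ⟨⟨⟩⟩, φ⟩ := s
    · refine (Zigzag.of_hom ?_).trans (hall (x := o ⟨.inl k⟩) φ)
      exact CostructuredArrow.homMk (eqToHom (hv' k)) (by
        show F.map (eqToHom _) ≫ eqToHom _ ≫ φ = φ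
        rw [eqToHom_map, eqToHom_trans_assoc]
        exact Category.id_comp φ)
    · refine (Zigzag.of_hom ?_).trans (hall (x := (g a).1) φ)
      exact CostructuredArrow.homMk (Bary.leg a false) (by
        show F.map (Bary.leg a false) ≫ eqToHom _ ≫ φ = φ
        rw [Bary.toCat_leg]
        simp [m])
  have hne : Nonempty (Bary en) ↔ Nonempty I := ⟨fun ⟨x⟩ => ⟨o x⟩, fun ⟨i⟩ => ⟨vx i⟩⟩
  refine ⟨Bary en, inferInstance, inferInstance, F, hfinal, hinitial, ⟨fun h => ?_, fun h => ?_⟩, hne⟩
  · haveI : Nonempty I := hne.1 h.is_nonempty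
    refine zigzag_isConnected fun i j => ?_
    have := zigzag_obj_of_zigzag F (isPreconnected_zigzag (vx i) (vx j))
    rwa [hvx, hvx] at this
  · haveI : Nonempty (Bary en) := hne.2 h.is_nonempty
    let P : MorphismProperty I := fun x y _ => Zigzag (vx x) (vx y)
    have hP : P.IsMultiplicative :=
      { id_mem := fun x => Zigzag.refl _
        comp_mem := fun _ _ hf hf' => Zigzag.trans hf hf' }
    have hedge : ∀ a, P (g a).2.2 := fun a =>
      (Zigzag.of_inv (Bary.leg (e := en) a false)).trans (Zigzag.of_hom (Bary.leg (e := en) a true))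
    have hI : ∀ i j : I, Zigzag (vx i) (vx j) := fun i j => by
      induction isPreconnected_zigzag i j with
      | refl => rfl
      | tail _ hzag ih =>
        rcases hzag with ⟨⟨φ⟩⟩ | ⟨⟨φ⟩⟩
        · exact ih.trans (hgall P hP hedge φ)
        · exact ih.trans (Zigzag.symm (hgall P hP hedge φ))
    have hto : ∀ x : Bary en, ∃ i, Zigzag x (vx i) := by
      rintro ⟨k | a⟩
      · exact ⟨_, Zigzag.of_hom (eqToHom (hv' k))⟩
      · exact ⟨(g a).1, Zigzag.of_hom (Bary.leg (e := en) a false)⟩
    refine zigzag_isConnected fun x y => ?_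
    obtain ⟨i, hi⟩ := hto x
    obtain ⟨j, hj⟩ := hto y
    exact (hi.trans (hI i j)).trans (Zigzag.symm hj)

end Groth.Agent.CatLimB
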