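import Mathlib.CategoryTheory.Endofunctor.Algebra
import Mathlib.CategoryTheory.Limits.Creates
import Mathlib.CategoryTheory.ObjectProperty.FullSubcategory

/-!
# The category of fixed points of an endofunctor has the colimits the endofunctor preserves
-/

set_option autoImplicit false
set_option backward.isDefEq.respectTransparency false
set_option backward.isDefEq.respectTransparency.types false

universe w w' v u

open CategoryTheory CategoryTheory.Limits

namespace Groth.Agent.CatLimB

variable {C : Type u} [Category.{v} C] (T : C ⥤ C)

/-- The algebras with invertible structure map. -/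
abbrev isoProp : ObjectProperty (Endofunctor.Algebra T) := fun A => IsIso A.str

/-- The forgetful functor on them. -/
abbrev U : (isoProp T).FullSubcategory ⥤ C := ObjectProperty.ι _ ⋙ Endofunctor.Algebra.forget T

variable {J : Type w} [Category.{w'} J] (D : J ⥤ (isoProp T).FullSubcategory)

/-- The structure isomorphisms of a diagram. -/
noncomputable def strIso : (D ⋙ U T) ⋙ T ≅ D ⋙ U T :=
  NatIso.ofComponents (fun j => haveI : IsIso (D.obj j).obj.str := (D.obj j).property; asIso (D.obj j).obj.str)
    fun f => (D.map f).hom.h

variable [PreservesColimitsOfShape J T]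

/-- The structure map on the colimit. -/
noncomputable def strPt {c : Cocone (D ⋙ U T)} (t : IsColimit c) : T.obj c.pt ≅ c.pt :=
  IsColimit.coconePointsIsoOfNatIso (isColimitOfPreserves T t) t (strIso T D)

lemma strPt_fac {c : Cocone (D ⋙ U T)} (t : IsColimit c) (j : J) :
    T.map (c.ι.app j) ≫ (strPt T D t).hom = (D.obj j).obj.str ≫ c.ι.app j :=
  IsColimit.comp_coconePointsIsoOfNatIso_hom (isColimitOfPreserves T t) t (strIso T D) j

/-- The lift of a colimit cocone. -/
noncomputable def liftCocone {c : Cocone (D ⋙ U T)} (t : IsColimit c) : Cocone D where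
  pt := ⟨⟨c.pt, (strPt T D t).hom⟩, inferInstanceAs (IsIso (strPt T D t).hom)⟩
  ι :=
    { app := fun j => ObjectProperty.homMk ⟨c.ι.app j, strPt_fac T D t j⟩
      naturality := fun i j f => by
        apply ObjectProperty.hom_ext
        apply Endofunctor.Algebra.ext
        exact c.ι.naturality f }

/-- The lift is a colimit. -/
noncomputable def isColimitLift {c : Cocone (D ⋙ U T)} (t : IsColimit c) : IsColimit (liftCocone T D t) where
  desc s := ObjectProperty.homMk ⟨t.desc ((U T).mapCocone s), (isColimitOfPreserves T t).hom_ext fun j => by
    show T.map (c.ι.app j) ≫ T.map (t.desc ((U T).mapCocone s)) ≫ s.pt.obj.str =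
      T.map (c.ι.app j) ≫ (strPt T D t).hom ≫ t.desc ((U T).mapCocone s)
    rw [← T.map_comp_assoc, t.fac, reassoc_of% (strPt_fac T D t j), t.fac]
    exact (s.ι.app j).hom.h⟩
  fac s j := by
    apply ObjectProperty.hom_ext
    apply Endofunctor.Algebra.ext
    exact t.fac ((U T).mapCocone s) j
  uniq s m hm := by
    apply ObjectProperty.hom_ext
    apply Endofunctor.Algebra.ext
    exact t.hom_ext fun j => ((congrArg (fun k => k.hom.f) (hm j)).trans (t.fac ((U T).mapCocone s) j).symm)

/-- The forgetful functor creates the colimits `T` preserves. -/
@[instance_reducible]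
noncomputable def creates (J : Type w) [Category.{w'} J] [PreservesColimitsOfShape J T] :
    CreatesColimitsOfShape J (U T) :=
  haveI : (U T).ReflectsIsomorphisms :=
    { reflects := fun {A B} f _ => by
        haveI : IsIso f.hom.f := inferInstanceAs (IsIso ((U T).map f))
        haveI : IsIso f.hom := Endofunctor.Algebra.iso_of_iso f.hom
        haveI : IsIso ((isoProp T).ι.map f) := inferInstanceAs (IsIso f.hom)
        exact isIso_of_reflects_iso f (isoProp T).ι }
  { CreatesColimit := fun {D} => createsColimitOfReflectsIso fun c t =>
      { liftedCocone := liftCocone T D t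
        validLift := Cocone.ext (Iso.refl _) (fun j => Category.comp_id _)
        makesColimit := isColimitLift T D t } }

end Groth.Agent.CatLimB
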